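import Groth.Agent.Lib.Lie3.Core
import Groth.Prelude.Def_W4c1bouilletffgsL3
import Mathlib.RingTheory.Ideal.Colon
import Mathlib.RingTheory.Ideal.MinimalPrime.Basic
import Mathlib.RingTheory.Localization.FractionRing
import Mathlib.RingTheory.Nilpotent.Basic

/-!
The Jacobi ideal of three-dimensional Lie algebras: linkage, primality.
-/

universe u

namespace Groth.Agent.Lib.Lie3.Basic

open MvPolynomial Groth.Agent.Lib.Lie3.Core

variable {A : Type u} [CommRing A]

local notation "D" => Lie3Mod.D A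

/-- change of coordinates `a = a' + i`, `b = b' - f`, `d = d' - h` -/
noncomputable def φ : D ≃ₐ[A] D :=
  AlgEquiv.ofAlgHom
    (aeval ![X 0 + X 8, X 1 - X 5, X 2, X 3 - X 7, X 4, X 5, X 6, X 7, X 8])
    (aeval ![X 0 - X 8, X 1 + X 5, X 2, X 3 + X 7, X 4, X 5, X 6, X 7, X 8])
    (by apply MvPolynomial.algHom_ext; intro j; fin_cases j <;> simp)
    (by apply MvPolynomial.algHom_ext; intro j; fin_cases j <;> simp)

@[simp] theorem φ_apply (p : D) :
    φ p = aeval ![X 0 + X 8, X 1 - X 5, X 2, X 3 - X 7, X 4, X 5, X 6, X 7, X 8] p := rfl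

variable (A) in
/-- `Q1` in new coordinates -/
noncomputable def P1 : D := X 0 * X 7 + X 3 * X 8 - X 1 * X 6
variable (A) in
/-- `Q2` in new coordinates -/
noncomputable def P2 : D := -(X 0 * X 4) + X 1 * X 3 - X 1 * X 7 - X 5 * X 3
variable (A) in
/-- `Q3` in new coordinates -/
noncomputable def P3 : D := X 2 * X 3 - X 0 * X 5 - X 1 * X 8
variable (A) in
/-- `detM` in new coordinates -/
noncomputable def P4 : D :=
  -(X 2 * X 7 ^ 2) + X 6 * (X 1 - X 5) * X 5 + X 4 * X 8 ^ 2 - X 6 * X 4 * X 2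
    + X 7 * (X 1 - X 5) * X 8 - X 8 * X 7 * X 5
variable (A) in
/-- `I` in new coordinates -/
noncomputable def mI : Ideal D := Ideal.span {P1 A, P2 A, P3 A}
variable (A) in
/-- `L` in new coordinates -/
noncomputable def mL : Ideal D := Ideal.span {X 0, X 1, X 3}
variable (A) in
/-- `J` in new coordinates -/
noncomputable def mJ : Ideal D := Ideal.span {P1 A, P2 A, P3 A, P4 A}

theorem φ_Q1 : φ (Lie3Mod.Q1 A) = P1 A := by simp [Lie3Mod.Q1, P1]; ring
theorem φ_Q2 : φ (Lie3Mod.Q2 A) = P2 A := by simp [Lie3Mod.Q2, P2]; ring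
theorem φ_Q3 : φ (Lie3Mod.Q3 A) = P3 A := by simp [Lie3Mod.Q3, P3]; ring
theorem φ_detM : φ (Lie3Mod.detM A) = P4 A := by simp [Lie3Mod.detM, P4]
theorem φ_L1 : φ (Lie3Mod.L1 A) = X 0 := by simp [Lie3Mod.L1]
theorem φ_L2 : φ (Lie3Mod.L2 A) = X 1 := by simp [Lie3Mod.L2]
theorem φ_L3 : φ (Lie3Mod.L3 A) = X 3 := by simp [Lie3Mod.L3]

theorem idI_eq : Lie3Mod.idI A = Ideal.comap φ (mI A) := by
  rw [← Ideal.comap_map_of_bijective (φ (A := A)) φ.bijective (I := Lie3Mod.idI A)]
  congr 1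
  rw [Lie3Mod.idI, Ideal.map_span, Set.image_insert_eq, Set.image_pair, φ_Q1, φ_Q2, φ_Q3, mI]

theorem idL_eq : Lie3Mod.idL A = Ideal.comap φ (mL A) := by
  rw [← Ideal.comap_map_of_bijective (φ (A := A)) φ.bijective (I := Lie3Mod.idL A)]
  congr 1
  rw [Lie3Mod.idL, Ideal.map_span, Set.image_insert_eq, Set.image_pair, φ_L1, φ_L2, φ_L3, mL]

theorem idJ_eq : Lie3Mod.idJ A = Ideal.comap φ (mJ A) := by
  rw [← Ideal.comap_map_of_bijective (φ (A := A)) φ.bijective (I := Lie3Mod.idJ A)]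
  congr 1
  rw [Lie3Mod.idJ, Ideal.map_span, Set.image_insert_eq, Set.image_insert_eq, Set.image_pair,
    φ_Q1, φ_Q2, φ_Q3, φ_detM, mJ]

theorem mI_le_mL : mI A ≤ mL A := by
  rw [mI, Ideal.span_le]
  simp only [Set.insert_subset_iff, Set.singleton_subset_iff, SetLike.mem_coe, mL]
  have h : ∀ a b c : D, a * X 0 + b * X 1 + c * X 3 ∈ Ideal.span {(X 0 : D), X 1, X 3} :=
    fun a b c => Ideal.add_mem _ (Ideal.add_mem _
      (Ideal.mul_mem_left _ _ (Ideal.subset_span (by simp)))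
      (Ideal.mul_mem_left _ _ (Ideal.subset_span (by simp))))
      (Ideal.mul_mem_left _ _ (Ideal.subset_span (by simp)))
  refine ⟨?_, ?_, ?_⟩
  · convert h (X 7) (-X 6) (X 8) using 1; rw [P1]; ring
  · convert h (-X 4) (-X 7) (X 1 - X 5) using 1; rw [P2]; ring
  · convert h (-X 5) (-X 8) (X 2) using 1; rw [P3]; ring

theorem mI_le_mJ : mI A ≤ mJ A := Ideal.span_mono (by
  intro x hx; simp at hx ⊢; tauto)

theorem P4_mul_mem {x : D} (hx : x ∈ mL A) : P4 A * x ∈ mI A := by
  have h : ∀ a b c : D, a * P1 A + b * P2 A + c * P3 A ∈ mI A :=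
    fun a b c => Ideal.add_mem _ (Ideal.add_mem _
      (Ideal.mul_mem_left _ _ (Ideal.subset_span (by simp)))
      (Ideal.mul_mem_left _ _ (Ideal.subset_span (by simp))))
      (Ideal.mul_mem_left _ _ (Ideal.subset_span (by simp)))
  have h0 : P4 A * X 0 ∈ mI A := by
    convert h (-(X 7 * X 2) + X 8 * (X 1 - X 5)) (X 6 * X 2 - X 8 ^ 2)
      (-(X 6 * (X 1 - X 5)) + X 7 * X 8) using 1
    rw [P1, P2, P3, P4]; ring
  have h1 : P4 A * X 1 ∈ mI A := by
    convert h (X 4 * X 2 - (X 1 - X 5) * X 5) (X 7 * X 2 + X 8 * X 5)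
      (-(X 7 * (X 1 - X 5)) - X 8 * X 4) using 1
    rw [P1, P2, P3, P4]; ring
  have h3 : P4 A * X 3 ∈ mI A := by
    convert h (X 4 * X 8 - X 7 * X 5) (X 7 * X 8 + X 6 * X 5)
      (-(X 7 ^ 2) - X 6 * X 4) using 1
    rw [P1, P2, P3, P4]; ring
  have : mL A ≤ (mI A).colon {P4 A} := by
    rw [mL, Ideal.span_le]
    simp only [Set.insert_subset_iff, Set.singleton_subset_iff, SetLike.mem_coe,
      Submodule.mem_colon_singleton, smul_eq_mul]
    exact ⟨mul_comm (P4 A) _ ▸ h0, mul_comm (P4 A) _ ▸ h1, mul_comm (P4 A) _ ▸ h3⟩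
  have := this hx
  rw [Submodule.mem_colon_singleton, smul_eq_mul] at this
  rwa [mul_comm]


theorem nzd_X_pair {i j : Fin 9} (h : j ≠ i) :
    NZD (Ideal.span {(X i : D)}) (X j) :=
  nzd_X j _ (by intro s hs; simp at hs; subst hs; simp [h.symm])

theorem span_sup1 (a b : D) : Ideal.span {a} ⊔ Ideal.span {b} = Ideal.span {a, b} := by
  rw [← Ideal.span_union]; congr 1

theorem span_sup2 (a b c : D) : Ideal.span {a, b} ⊔ Ideal.span {c} = Ideal.span {a, b, c} := by
  rw [← Ideal.span_union]; congr 1; aesop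

theorem bot_eq : (⊥ : Ideal D) = Ideal.span ∅ := Ideal.span_empty.symm

theorem nzd_P1_bot : NZD (⊥ : Ideal D) (P1 A) := by
  rw [bot_eq]
  refine nzd_linear 6 ∅ (by simp) (u := -X 1) (w := X 0 * X 7 + X 3 * X 8) (by rw [P1]; ring)
    (by simp) (by simp) ?_
  exact nzd_linear 1 ∅ (by simp) (u := -1) (w := 0) (by ring) (by simp) (by simp)
    (fun y hy => by simpa using hy)

theorem nzd_neg {I : Ideal D} {x : D} (h : NZD I x) : NZD I (-x) :=
  fun y hy => h y (by simpa using I.neg_mem hy)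

/-- `P1` stays a non-zero-divisor modulo some variables different from `b'`. -/
theorem nzd_P1 (S : Set D) (h6 : ∀ s ∈ S, extract 6 s = Polynomial.C s)
    (h1 : ∀ s ∈ S, extract 1 s = Polynomial.C s) : NZD (Ideal.span S) (P1 A) :=
  nzd_linear 6 S h6 (u := -X 1) (w := X 0 * X 7 + X 3 * X 8) (by rw [P1]; ring)
    (by simp) (by simp) (nzd_neg (nzd_X 1 S h1))

theorem nzd_X_mod_P1 (S : Set D) (v : Fin 9) (hv : ∀ s ∈ S, extract v s = Polynomial.C s)
    (h : NZD (Ideal.span (insert (X v) S)) (P1 A)) :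
    NZD (Ideal.span (insert (P1 A) S)) (X v) := by
  rw [Ideal.span_insert, sup_comm] at h ⊢
  exact nzd_swap (nzd_X v S hv) h

theorem nzd_X0_mod_P1 : NZD (Ideal.span {P1 A}) (X 0 : D) := by
  have := nzd_X_mod_P1 (A := A) ∅ 0 (by simp) (nzd_P1 _ (by simp) (by simp))
  simpa using this

theorem nzd_P2_P1 : NZD (Ideal.span {P1 A}) (P2 A) :=
  nzd_linear 4 _ (by intro s hs; simp at hs; subst hs; simp [P1])
    (u := -X 0) (w := X 1 * X 3 - X 1 * X 7 - X 5 * X 3) (by rw [P2]; ring)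
    (by simp) (by simp) (nzd_neg nzd_X0_mod_P1)

theorem nzd_X3_P1P2 : NZD (Ideal.span {P1 A, P2 A}) (X 3 : D) := by
  rw [← span_sup1]
  apply nzd_swap
  · have := nzd_X_mod_P1 (A := A) ∅ 3 (by simp) (nzd_P1 _ (by simp) (by simp))
    simpa using this
  · rw [span_sup1]
    refine nzd_linear 4 _ (by intro s hs; simp at hs; rcases hs with rfl | rfl <;> simp [P1])
      (u := -X 0) (w := X 1 * X 3 - X 1 * X 7 - X 5 * X 3) (by rw [P2]; ring)
      (by simp) (by simp) (nzd_neg ?_)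
    have := nzd_X_mod_P1 (A := A) {X 3} 0 (by simp) (nzd_P1 _ (by simp) (by simp))
    exact this

theorem nzd_P3_P1P2 : NZD (Ideal.span {P1 A, P2 A}) (P3 A) :=
  nzd_linear 2 _ (by intro s hs; simp at hs; rcases hs with rfl | rfl <;> simp [P1, P2])
    (u := X 3) (w := -(X 0 * X 5) - X 1 * X 8) (by rw [P3]; ring)
    (by simp) (by simp) nzd_X3_P1P2

theorem nzd_X3_bot : NZD (⊥ : Ideal D) (X 3) := by
  rw [bot_eq]; exact nzd_X 3 ∅ (by simp)

theorem nzd_X0_bot : NZD (⊥ : Ideal D) (X 0) := by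
  rw [bot_eq]; exact nzd_X 0 ∅ (by simp)

theorem nzd_X1_X0 : NZD (Ideal.span {(X 0 : D)}) (X 1) := nzd_X_pair (by decide)

theorem nzd_X3_X01 : NZD (Ideal.span {(X 0 : D), X 1}) (X 3) :=
  nzd_X 3 _ (by intro s hs; simp at hs; rcases hs with rfl | rfl <;> simp)

theorem regular_P : RingTheory.Sequence.IsWeaklyRegular D [P1 A, P2 A, P3 A] :=
  isWeaklyRegular_three nzd_P1_bot nzd_P2_P1 nzd_P3_P1P2

theorem regular_X : RingTheory.Sequence.IsWeaklyRegular D [(X 0 : D), X 1, X 3] :=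
  isWeaklyRegular_three nzd_X0_bot nzd_X1_X0 nzd_X3_X01

theorem nzd_P4_mL : NZD (mL A) (P4 A) := by
  refine nzd_linear 4 _ (by intro s hs; simp at hs; rcases hs with rfl | rfl | rfl <;> simp)
    (u := X 8 ^ 2 - X 6 * X 2)
    (w := -(X 2 * X 7 ^ 2) + X 6 * (X 1 - X 5) * X 5 + X 7 * (X 1 - X 5) * X 8 - X 8 * X 7 * X 5)
    (by rw [P4]; ring) (by simp) (by simp) ?_
  exact nzd_linear 2 _ (by intro s hs; simp at hs; rcases hs with rfl | rfl | rfl <;> simp)
    (u := -X 6) (w := X 8 ^ 2) (by ring) (by simp) (by simp)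
    (nzd_neg (nzd_X 6 _ (by intro s hs; simp at hs; rcases hs with rfl | rfl | rfl <;> simp)))

open Matrix in
theorem mem_mJ_of {x : D} (hx : ∀ y ∈ mL A, x * y ∈ mI A) : x ∈ mJ A := by
  obtain ⟨t, s, e⟩ := linkage ![(X 0 : D), X 1, X 3] ![P1 A, P2 A, P3 A]
    ![X 7, -X 4, -X 5] ![-X 6, -X 7, -X 8] ![X 8, X 1 - X 5, X 2]
    (by ext i : 1; fin_cases i <;> simp [P1, P2, P3] <;> ring)
    nzd_X0_bot nzd_X1_X0 nzd_X3_X01 nzd_P1_bot nzd_P2_P1 nzd_P3_P1P2 (x := x)
    (fun i => hx _ (Ideal.subset_span (by fin_cases i <;> simp)))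
  rw [e]
  refine Ideal.sub_mem _ ?_ ?_
  · refine Ideal.sum_mem _ fun i _ => Ideal.mul_mem_left _ _ (Ideal.subset_span ?_)
    fin_cases i <;> simp
  · refine Ideal.mul_mem_left _ _ ?_
    have : (![X 7, -X 4, -X 5] : Fin 3 → D) ⬝ᵥ ![-X 6, -X 7, -X 8] ⨯₃ ![X 8, X 1 - X 5, X 2]
        = P4 A := by
      simp [dotProduct, Fin.sum_univ_three, cr0, cr1, cr2, P4]; ring
    rw [this]
    exact Ideal.subset_span (by simp)

theorem mul_mem_mI {x y : D} (hx : x ∈ mJ A) (hy : y ∈ mL A) : x * y ∈ mI A := by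
  have : mJ A ≤ (mI A).colon {y} := by
    rw [mJ, Ideal.span_le]
    simp only [Set.insert_subset_iff, Set.singleton_subset_iff, SetLike.mem_coe,
      Submodule.mem_colon_singleton, smul_eq_mul]
    exact ⟨Ideal.mul_mem_right _ _ (Ideal.subset_span (by simp)),
      Ideal.mul_mem_right _ _ (Ideal.subset_span (by simp)),
      Ideal.mul_mem_right _ _ (Ideal.subset_span (by simp)), P4_mul_mem hy⟩
  simpa [Submodule.mem_colon_singleton] using this hx

theorem mem_mJ_iff {x : D} : x ∈ mJ A ↔ ∀ y ∈ mL A, x * y ∈ mI A :=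
  ⟨fun hx _ hy => mul_mem_mI hx hy, mem_mJ_of⟩

theorem mem_mL_iff {x : D} : x ∈ mL A ↔ ∀ y ∈ mJ A, x * y ∈ mI A := by
  refine ⟨fun hx y hy => mul_comm x y ▸ mul_mem_mI hy hx, fun h => ?_⟩
  apply nzd_P4_mL
  rw [mul_comm]
  exact mI_le_mL (h _ (Ideal.subset_span (by simp)))

theorem mI_eq_inf : mI A = mJ A ⊓ mL A := by
  refine le_antisymm (le_inf mI_le_mJ mI_le_mL) ?_
  rintro x ⟨hJ, hL⟩
  obtain ⟨r, i, hi, e⟩ : ∃ r, ∃ i ∈ mI A, x = r * P4 A + i := by
    have : mJ A = Ideal.span {P4 A} ⊔ mI A := by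
      rw [mJ, mI, ← Ideal.span_insert]; congr 1; ext; simp; tauto
    rw [SetLike.mem_coe, this] at hJ
    obtain ⟨a, ha, i, hi, rfl⟩ := Submodule.mem_sup.mp hJ
    obtain ⟨r, rfl⟩ := Ideal.mem_span_singleton'.mp ha
    exact ⟨r, i, hi, rfl⟩
  have hr : r ∈ mL A := nzd_P4_mL r (by
    rw [show P4 A * r = x - i by rw [e]; ring]
    exact Ideal.sub_mem _ hL (mI_le_mL hi))
  rw [e]
  exact Ideal.add_mem _ (mul_comm (P4 A) r ▸ P4_mul_mem hr) hi

/-- the regular sequence of length four in `J + (d')` -/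
theorem regular_four : RingTheory.Sequence.IsWeaklyRegular D
    [(X 3 : D), X 0 * X 7 - X 1 * X 6, X 0 * X 5 + X 1 * X 8, P4 A] := by
  have q1 : ∀ S : Set D, (∀ s ∈ S, extract 6 s = Polynomial.C s) →
      (∀ s ∈ S, extract 1 s = Polynomial.C s) →
      NZD (Ideal.span S) (X 0 * X 7 - X 1 * X 6) := fun S h6 h1 =>
    nzd_linear 6 S h6 (u := -X 1) (w := X 0 * X 7) (by ring) (by simp) (by simp)
      (nzd_neg (nzd_X 1 S h1))
  have g : NZD (Ideal.span {(X 3 : D), X 0 * X 7 - X 1 * X 6}) (X 0) := by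
    rw [← span_sup1]
    refine nzd_swap (nzd_X_pair (by decide)) ?_
    rw [span_sup1]; exact q1 _ (by simp) (by simp)
  have g3 : NZD (Ideal.span {(X 3 : D), X 0 * X 7 - X 1 * X 6}) (X 0 * X 5 + X 1 * X 8) :=
    nzd_linear 5 _ (by simp) (u := X 0) (w := X 1 * X 8) (by ring) (by simp) (by simp) g
  have g6 : NZD (Ideal.span {(X 3 : D), X 0 * X 7 - X 1 * X 6}) (X 6) := by
    rw [← span_sup1]
    refine nzd_swap (nzd_X_pair (by decide)) ?_
    rw [span_sup1]
    refine nzd_linear 7 _ (by simp) (u := X 0) (w := -(X 1 * X 6)) (by ring) (by simp) (by simp) ?_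
    exact nzd_X 0 _ (by simp)
  have g7 : NZD (Ideal.span {(X 3 : D), X 0 * X 7 - X 1 * X 6} ⊔ Ideal.span {X 0 * X 5 + X 1 * X 8})
      (X 6) := by
    refine nzd_swap g6 ?_
    rw [span_sup2]
    refine nzd_linear 8 _ (by simp) (u := X 1) (w := X 0 * X 5) (by ring) (by simp) (by simp) ?_
    have e : (Ideal.span {(X 3 : D), X 0 * X 7 - X 1 * X 6, X 6}) =
        Ideal.span {(X 3 : D), X 6, X 0 * X 7} := by
      refine le_antisymm (Ideal.span_le.mpr ?_) (Ideal.span_le.mpr ?_) <;>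
        simp only [Set.insert_subset_iff, Set.singleton_subset_iff, SetLike.mem_coe]
      · refine ⟨Ideal.subset_span (by simp), ?_, Ideal.subset_span (by simp)⟩
        exact Ideal.sub_mem _ (Ideal.subset_span (by simp))
          (Ideal.mul_mem_left _ _ (Ideal.subset_span (by simp)))
      · refine ⟨Ideal.subset_span (by simp), Ideal.subset_span (by simp), ?_⟩
        rw [show (X 0 * X 7 : D) = (X 0 * X 7 - X 1 * X 6) + X 1 * X 6 by ring]
        exact Ideal.add_mem _ (Ideal.subset_span (by simp))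
          (Ideal.mul_mem_left _ _ (Ideal.subset_span (by simp)))
    rw [e]
    exact nzd_X 1 _ (by simp)
  rw [span_sup2] at g7
  have g4 : NZD (Ideal.span {(X 3 : D), X 0 * X 7 - X 1 * X 6, X 0 * X 5 + X 1 * X 8}) (P4 A) := by
    refine nzd_linear 4 _ (by simp) (u := X 8 ^ 2 - X 6 * X 2)
      (w := -(X 2 * X 7 ^ 2) + X 6 * (X 1 - X 5) * X 5 + X 7 * (X 1 - X 5) * X 8
        - X 8 * X 7 * X 5)
      (by rw [P4]; ring) (by simp) (by simp) ?_
    exact nzd_linear 2 _ (by simp) (u := -X 6) (w := X 8 ^ 2) (by ring) (by simp) (by simp)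
      (nzd_neg g7)
  rw [RingTheory.Sequence.isWeaklyRegular_iff_Fin]
  intro i
  have key : ∀ (l : List D) (x : D), NZD (Ideal.ofList l) x →
      IsSMulRegular (D ⧸ (Ideal.ofList l • ⊤ : Submodule D D)) x := by
    intro l x h
    have e : (Ideal.ofList l • ⊤ : Submodule D D) = Ideal.ofList l := by simp
    rw [e]
    exact (isSMulRegular_quot_iff _ _).mpr h
  apply key
  fin_cases i
  · simpa using nzd_X3_bot
  · simpa using q1 {(X 3 : D)} (by simp) (by simp)
  · simpa [Ideal.span_insert] using g3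
  · simpa [Ideal.span_insert, sup_assoc] using g4

section Noetherian
variable [IsNoetherianRing A] [Nontrivial A]

theorem nzd_X3_mJ : NZD (mJ A) (X 3 : D) := by
  intro x hx
  rw [mem_mJ_iff] at hx ⊢
  intro y hy
  let b : Ideal D := Ideal.span {X 3, X 0 * X 7 - X 1 * X 6, X 0 * X 5 + X 1 * X 8, P4 A}
  have hb : b ≠ ⊤ := by
    intro e
    have : b ≤ RingHom.ker (aeval (fun _ => (0 : A)) : D →ₐ[A] A) := by
      rw [Ideal.span_le]
      simp only [Set.insert_subset_iff, Set.singleton_subset_iff, SetLike.mem_coe]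
      simp [P4]
    have h1 := (e ▸ this) (Submodule.mem_top : (1 : D) ∈ ⊤)
    simp at h1
  have he : Ideal.ofList [P1 A, P2 A, P3 A] = mI A := by
    simp [mI, Ideal.span_insert]
  rw [← he]
  refine eq_zero_of_annihilated b hb [X 3, X 0 * X 7 - X 1 * X 6, X 0 * X 5 + X 1 * X 8, P4 A]
    [P1 A, P2 A, P3 A] (fun r hr => Ideal.subset_span (by simpa using hr)) regular_four regular_P
    (by simp) (x * y) ?_
  rw [he]
  have h3 : X 3 * (x * y) ∈ mI A := by rw [← mul_assoc]; exact hx y hy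
  have h4 : P4 A * (x * y) ∈ mI A := P4_mul_mem (Ideal.mul_mem_left _ _ hy)
  have : b ≤ (mI A).colon {x * y} := by
    rw [Ideal.span_le]
    simp only [Set.insert_subset_iff, Set.singleton_subset_iff, SetLike.mem_coe,
      Submodule.mem_colon_singleton, smul_eq_mul]
    refine ⟨h3, ?_, ?_, h4⟩
    · rw [show (X 0 * X 7 - X 1 * X 6) * (x * y) = P1 A * (x * y) - X 8 * (X 3 * (x * y)) by
        rw [P1]; ring]
      exact Ideal.sub_mem _ (Ideal.mul_mem_right _ _ (Ideal.subset_span (by simp)))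
        (Ideal.mul_mem_left _ _ h3)
    · rw [show (X 0 * X 5 + X 1 * X 8) * (x * y) = X 2 * (X 3 * (x * y)) - P3 A * (x * y) by
        rw [P3]; ring]
      exact Ideal.sub_mem _ (Ideal.mul_mem_left _ _ h3)
        (Ideal.mul_mem_right _ _ (Ideal.subset_span (by simp)))
  intro r hr
  simpa [Submodule.mem_colon_singleton] using this hr

end Noetherian

section Domain
variable [IsDomain A] [IsNoetherianRing A]

omit [IsNoetherianRing A] in
theorem X3_notMem_mJ : (X 3 : D) ∉ mJ A := by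
  intro h
  have : mJ A ≤ RingHom.ker
      (aeval ![(0 : A), 0, 0, 1, 0, 0, 0, 0, 0] : D →ₐ[A] A) := by
    rw [mJ, Ideal.span_le]
    simp only [Set.insert_subset_iff, Set.singleton_subset_iff, SetLike.mem_coe]
    simp [P1, P2, P3, P4]
  simpa using this h

theorem mJ_isPrime : (mJ A).IsPrime := by
  let F := FractionRing D
  let r : D → F := algebraMap D F
  let ci : F := (r (X 1 * X 6 - X 0 * X 7)) / r (X 3)
  let cf : F := (r (X 1 * X 3 - X 0 * X 4 - X 1 * X 7)) / r (X 3)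
  let cc : F := (r (X 0) * cf + r (X 1) * ci) / r (X 3)
  let s : D →ₐ[A] F := aeval ![r (X 0), r (X 1), cc, r (X 3), r (X 4), cf, r (X 6), r (X 7), ci]
  have hd : r (X 3) ≠ 0 := by
    intro h
    exact X_ne_zero (R := A) (3 : Fin 9) (IsFractionRing.injective D F (by simpa [r] using h))
  have hi : ci * r (X 3) = r (X 1) * r (X 6) - r (X 0) * r (X 7) := by
    simp [ci, r, div_mul_cancel₀ _ hd]
  have hf : cf * r (X 3) = r (X 1) * r (X 3) - r (X 0) * r (X 4) - r (X 1) * r (X 7) := by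
    simp [cf, r, div_mul_cancel₀ _ hd]
  have hc : cc * r (X 3) = r (X 0) * cf + r (X 1) * ci := by
    simp only [cc]; rw [div_mul_cancel₀ _ hd]
  have hs1 : s (P1 A) = 0 := by simp [s, P1]; linear_combination hi
  have hs2 : s (P2 A) = 0 := by simp [s, P2]; linear_combination -hf
  have hs3 : s (P3 A) = 0 := by simp [s, P3]; linear_combination hc
  have hIker : mI A ≤ RingHom.ker s := by
    rw [mI, Ideal.span_le]
    simp only [Set.insert_subset_iff, Set.singleton_subset_iff, SetLike.mem_coe]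
    exact ⟨hs1, hs2, hs3⟩
  have hs4 : s (P4 A) = 0 := by
    have := hIker (P4_mul_mem (A := A) (x := X 3) (Ideal.subset_span (by simp)))
    rw [RingHom.mem_ker, map_mul] at this
    refine (mul_eq_zero.mp this).resolve_right ?_
    simpa [s] using hd
  have hJker : mJ A ≤ RingHom.ker s := by
    rw [mJ, Ideal.span_le]
    simp only [Set.insert_subset_iff, Set.singleton_subset_iff, SetLike.mem_coe]
    exact ⟨hs1, hs2, hs3, hs4⟩
  -- elimination of `c`, `f`, `i` after multiplying by a power of `d'`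
  let ι : D →ₐ[A] D := aeval ![X 0, X 1, 0, X 3, X 4, 0, X 6, X 7, 0]
  have hred : ∀ p : D, ∃ (N : ℕ) (q : D),
      (aeval ![r (X 0), r (X 1), 0, r (X 3), r (X 4), 0, r (X 6), r (X 7), 0] : D →ₐ[A] F) q = r q ∧
      X 3 ^ N * p - q ∈ mI A := by
    have hP : ∀ {a b c : D}, a * P1 A + b * P2 A + c * P3 A ∈ mI A := fun {a b c} =>
      Ideal.add_mem _ (Ideal.add_mem _
        (Ideal.mul_mem_left _ _ (Ideal.subset_span (by simp)))
        (Ideal.mul_mem_left _ _ (Ideal.subset_span (by simp))))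
        (Ideal.mul_mem_left _ _ (Ideal.subset_span (by simp)))
    have hvar : ∀ j : Fin 9, ∃ (N : ℕ) (q : D),
        (aeval ![r (X 0), r (X 1), 0, r (X 3), r (X 4), 0, r (X 6), r (X 7), 0] : D →ₐ[A] F) q
          = r q ∧ X 3 ^ N * X j - q ∈ mI A := by
      intro j
      fin_cases j <;> simp only [Fin.reduceFinMk]
      · exact ⟨0, X 0, by simp, by simp⟩
      · exact ⟨0, X 1, by simp, by simp⟩
      · refine ⟨2, X 0 * (X 1 * X 3 - X 0 * X 4 - X 1 * X 7) + X 1 * (X 1 * X 6 - X 0 * X 7),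
          by simp [r], ?_⟩
        convert hP (a := X 1) (b := -X 0) (c := X 3) using 1
        simp only [P1, P2, P3]; ring
      · exact ⟨0, X 3, by simp, by simp⟩
      · exact ⟨0, X 4, by simp, by simp⟩
      · refine ⟨1, X 1 * X 3 - X 0 * X 4 - X 1 * X 7, by simp [r], ?_⟩
        convert hP (a := 0) (b := -1) (c := 0) using 1
        simp only [P2]; simp; ring
      · exact ⟨0, X 6, by simp, by simp⟩
      · exact ⟨0, X 7, by simp, by simp⟩
      · refine ⟨1, X 1 * X 6 - X 0 * X 7, by simp [r], ?_⟩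
        convert hP (a := 1) (b := 0) (c := 0) using 1
        simp only [P1]; simp; ring
    intro p
    induction p using MvPolynomial.induction_on with
    | C a =>
      refine ⟨0, C a, ?_, by simp⟩
      simp only [aeval_C, r]
      exact IsScalarTower.algebraMap_apply A D F a
    | add p q hp hq =>
      obtain ⟨N, p', hp1, hp2⟩ := hp
      obtain ⟨M, q', hq1, hq2⟩ := hq
      refine ⟨N + M, X 3 ^ M * p' + X 3 ^ N * q', by simp [hp1, hq1, r], ?_⟩
      convert Ideal.add_mem _ (Ideal.mul_mem_left _ (X 3 ^ M) hp2)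
        (Ideal.mul_mem_left _ (X 3 ^ N) hq2) using 1
      ring
    | mul_X p j hp =>
      obtain ⟨N, p', hp1, hp2⟩ := hp
      obtain ⟨M, q', hq1, hq2⟩ := hvar j
      refine ⟨N + M, p' * q', by simp [hp1, hq1, r], ?_⟩
      convert Ideal.add_mem _ (Ideal.mul_mem_left _ (X 3 ^ M * X j) hp2)
        (Ideal.mul_mem_left _ p' hq2) using 1
      ring
  have hker : RingHom.ker s ≤ mJ A := by
    intro p hp
    obtain ⟨N, q, hq1, hq2⟩ := hred p
    have hrq : r q = 0 := by
      rw [← hq1]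
      have h1 : s q = 0 := by
        have := hIker hq2
        rw [RingHom.mem_ker] at this hp
        simpa [hp] using this
      -- `q` only involves variables fixed by `s`
      have h2 : ∀ z : D, (aeval ![r (X 0), r (X 1), 0, r (X 3), r (X 4), 0, r (X 6), r (X 7), 0]
          : D →ₐ[A] F) z = r (ι z) := by
        intro z
        change _ = ((IsScalarTower.toAlgHom A D F).comp ι) z
        congr 1
        apply MvPolynomial.algHom_ext
        intro j; fin_cases j <;> simp [ι, r]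
      have h3 : ι q = q := IsFractionRing.injective D F ((h2 q).symm.trans hq1)
      have h4 : s (ι q) = r (ι q) := by
        change (s.comp ι) q = ((IsScalarTower.toAlgHom A D F).comp ι) q
        congr 1
        apply MvPolynomial.algHom_ext
        intro j; fin_cases j <;> simp [ι, r, s]
      rw [h2, ← h4, h3, h1]
    have hq0 : q = 0 := IsFractionRing.injective D F (by simpa [r] using hrq)
    rw [hq0, sub_zero] at hq2
    have hpow : ∀ (n : ℕ), X 3 ^ n * p ∈ mJ A → p ∈ mJ A := by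
      intro n
      induction n with
      | zero => simp
      | succ n ih =>
        intro h
        exact ih (nzd_X3_mJ _ (by rwa [← mul_assoc, ← pow_succ']))
    exact hpow N (mI_le_mJ hq2)
  rw [le_antisymm hJker hker]
  exact RingHom.ker_isPrime s

end Domain

section OriginalCoordinates

theorem colon_idI_idL : (Lie3Mod.idI A).colon (Lie3Mod.idL A : Set D) = Lie3Mod.idJ A := by
  ext x
  rw [Submodule.mem_colon, idI_eq, idL_eq, idJ_eq, Ideal.mem_comap, mem_mJ_iff]
  constructor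
  · intro h y hy
    have := h (φ.symm y) (by simpa only [SetLike.mem_coe, Ideal.mem_comap, AlgEquiv.apply_symm_apply] using hy)
    simpa only [smul_eq_mul, Ideal.mem_comap, map_mul, AlgEquiv.apply_symm_apply] using this
  · intro h y hy
    simpa only [smul_eq_mul, Ideal.mem_comap, map_mul] using h _ hy

theorem colon_idI_idJ : (Lie3Mod.idI A).colon (Lie3Mod.idJ A : Set D) = Lie3Mod.idL A := by
  ext x
  rw [Submodule.mem_colon, idI_eq, idL_eq, idJ_eq, Ideal.mem_comap, mem_mL_iff]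
  constructor
  · intro h y hy
    have := h (φ.symm y) (by simpa only [SetLike.mem_coe, Ideal.mem_comap, AlgEquiv.apply_symm_apply] using hy)
    simpa only [smul_eq_mul, Ideal.mem_comap, map_mul, AlgEquiv.apply_symm_apply] using this
  · intro h y hy
    simpa only [smul_eq_mul, Ideal.mem_comap, map_mul] using h _ hy

theorem idI_eq_inf : Lie3Mod.idI A = Lie3Mod.idJ A ⊓ Lie3Mod.idL A := by
  rw [idI_eq, idJ_eq, idL_eq, mI_eq_inf]; rfl

theorem idJ_isPrime [IsDomain A] [IsNoetherianRing A] : (Lie3Mod.idJ A).IsPrime := by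
  rw [idJ_eq]
  have := mJ_isPrime (A := A)
  exact Ideal.comap_isPrime _ _

theorem idL_isPrime [IsDomain A] : (Lie3Mod.idL A).IsPrime := by
  let ι : D →ₐ[A] D := aeval ![0, 0, X 2, 0, X 4, X 5, X 6, X 7, X 8]
  have hm : mL A = RingHom.ker ι := by
    refine le_antisymm ?_ ?_
    · rw [mL, Ideal.span_le]
      simp only [Set.insert_subset_iff, Set.singleton_subset_iff, SetLike.mem_coe]
      simp [ι]
    · intro p hp
      have : ∀ p : D, p - ι p ∈ mL A := by
        intro p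
        induction p using MvPolynomial.induction_on with
        | C a => simp [ι]
        | add p q hp hq => convert Ideal.add_mem _ hp hq using 1; simp; ring
        | mul_X p j hp =>
          have hj : (X j : D) - ι (X j) ∈ mL A := by
            fin_cases j <;> simp [ι, mL] <;> exact Ideal.subset_span (by simp)
          convert Ideal.add_mem _ (Ideal.mul_mem_right (X j) _ hp)
            (Ideal.mul_mem_left _ (ι p) hj) using 1
          simp; ring
      rw [RingHom.mem_ker] at hp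
      simpa [hp] using this p
  rw [idL_eq, hm]
  have := RingHom.ker_isPrime ι
  exact Ideal.comap_isPrime _ _

theorem detM_notMem_idL [Nontrivial A] : Lie3Mod.detM A ∉ Lie3Mod.idL A := by
  intro h
  rw [idL_eq, Ideal.mem_comap, φ_detM] at h
  have h1 : (1 : D) ∈ mL A := nzd_P4_mL 1 (by simpa using h)
  have : mL A ≤ RingHom.ker (aeval (fun _ => (0 : A)) : D →ₐ[A] A) := by
    rw [mL, Ideal.span_le]
    simp only [Set.insert_subset_iff, Set.singleton_subset_iff, SetLike.mem_coe]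
    simp
  simpa using this h1

theorem detM_mul_mem {x : D} (hx : x ∈ Lie3Mod.idL A) : Lie3Mod.detM A * x ∈ Lie3Mod.idI A := by
  rw [idI_eq, Ideal.mem_comap, map_mul, φ_detM]
  rw [idL_eq, Ideal.mem_comap] at hx
  exact P4_mul_mem hx

theorem idI_le_idJ : Lie3Mod.idI A ≤ Lie3Mod.idJ A := by
  rw [idI_eq_inf]; exact inf_le_left

theorem idL_mem_minimalPrimes [IsDomain A] :
    Lie3Mod.idL A ∈ (Lie3Mod.idI A).minimalPrimes := by
  refine ⟨⟨idL_isPrime, by rw [idI_eq_inf]; exact inf_le_right⟩, ?_⟩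
  rintro P ⟨hP, hIP⟩ hPL x hx
  exact (hP.mem_or_mem (hIP (detM_mul_mem hx))).resolve_left
    fun h => detM_notMem_idL (hPL h)

theorem L3_notMem_idJ [IsDomain A] [IsNoetherianRing A] : Lie3Mod.L3 A ∉ Lie3Mod.idJ A := by
  intro h
  rw [idJ_eq, Ideal.mem_comap, φ_L3] at h
  exact X3_notMem_mJ h

theorem idJ_mem_minimalPrimes [IsDomain A] [IsNoetherianRing A] :
    Lie3Mod.idJ A ∈ (Lie3Mod.idI A).minimalPrimes := by
  refine ⟨⟨idJ_isPrime, idI_le_idJ⟩, ?_⟩
  rintro P ⟨hP, hIP⟩ hPJ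
  have hd : Lie3Mod.detM A ∈ P :=
    (hP.mem_or_mem (hIP (detM_mul_mem (x := Lie3Mod.L3 A) (Ideal.subset_span (by simp))))).resolve_right
      fun h => L3_notMem_idJ (hPJ h)
  rw [Lie3Mod.idJ, Ideal.span_le]
  simp only [Set.insert_subset_iff, Set.singleton_subset_iff, SetLike.mem_coe]
  exact ⟨hIP (Ideal.subset_span (by simp)), hIP (Ideal.subset_span (by simp)),
    hIP (Ideal.subset_span (by simp)), hd⟩

end OriginalCoordinates

end Groth.Agent.Lib.Lie3.Basic
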