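import Mathlib.RingTheory.Regular.RegularSequence
import Mathlib.RingTheory.Depth.Rees
import Mathlib.Algebra.MvPolynomial.Eval
import Mathlib.Algebra.Polynomial.Eval.Coeff
import Mathlib.Algebra.Polynomial.Degree.Lemmas
import Mathlib.RingTheory.Ideal.Quotient.Operations
import Mathlib.LinearAlgebra.CrossProduct
import Mathlib.RingTheory.Polynomial.Basic

/-!
Non-zero-divisors modulo an ideal, a linear-leading-coefficient criterion in polynomial rings,
linkage of two complete intersections of three elements, vanishing of homs by Ext.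
-/

universe u

namespace Groth.Agent.Lib.Lie3.Core

open MvPolynomial

section General
variable {R : Type*} [CommRing R]

/-- `x` is a non-zero-divisor modulo `I`. -/
def NZD (I : Ideal R) (x : R) : Prop := ∀ y, x * y ∈ I → y ∈ I

theorem nzd_congr {I : Ideal R} {x x' : R} (h : NZD I x) (hx : x - x' ∈ I) : NZD I x' := by
  intro y hy
  apply h
  have : x * y = (x - x') * y + x' * y := by ring
  rw [this]
  exact I.add_mem (I.mul_mem_right _ hx) hy

theorem nzd_swap {I : Ideal R} {x y : R} (hx : NZD I x) (hy : NZD (I ⊔ Ideal.span {x}) y) :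
    NZD (I ⊔ Ideal.span {y}) x := by
  intro z hz
  obtain ⟨i, hi, t, ht, hsum⟩ := Submodule.mem_sup.mp hz
  obtain ⟨a, rfl⟩ := Ideal.mem_span_singleton'.mp ht
  have h1 : y * a ∈ I ⊔ Ideal.span {x} := by
    rw [show y * a = (-i) + x * z by rw [← hsum]; ring]
    exact Submodule.add_mem_sup (I.neg_mem hi) (Ideal.mem_span_singleton'.mpr ⟨z, mul_comm _ _⟩)
  obtain ⟨j, hj, t, ht, hsum2⟩ := Submodule.mem_sup.mp (hy a h1)
  obtain ⟨b, rfl⟩ := Ideal.mem_span_singleton'.mp ht
  have h2 : x * (z - b * y) ∈ I := by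
    rw [show x * (z - b * y) = i + j * y by rw [mul_sub, ← hsum, ← hsum2]; ring]
    exact I.add_mem hi (I.mul_mem_right _ hj)
  rw [show z = (z - b * y) + b * y by ring]
  exact Submodule.add_mem_sup (hx _ h2) (Ideal.mem_span_singleton'.mpr ⟨b, rfl⟩)

theorem isSMulRegular_quot_iff (J : Ideal R) (x : R) : IsSMulRegular (R ⧸ J) x ↔ NZD J x := by
  constructor
  · intro h y hy
    apply Ideal.Quotient.eq_zero_iff_mem.mp
    apply h
    simp only [smul_zero]
    exact (Ideal.Quotient.eq_zero_iff_mem.mpr hy : Ideal.Quotient.mk J (x * y) = 0)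
  · intro h a b hab
    obtain ⟨a, rfl⟩ := Ideal.Quotient.mk_surjective a
    obtain ⟨b, rfl⟩ := Ideal.Quotient.mk_surjective b
    change Ideal.Quotient.mk J (x * a) = Ideal.Quotient.mk J (x * b) at hab
    rw [Ideal.Quotient.eq] at hab ⊢
    exact h _ (by rwa [mul_sub])

theorem nzd_bot_iff (x : R) : IsSMulRegular R x ↔ NZD (⊥ : Ideal R) x := by
  constructor
  · intro h y hy
    have h0 : x * y = 0 := Submodule.mem_bot R |>.mp hy
    exact (Submodule.mem_bot R).mpr (h (by simpa using h0))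
  · intro h a b hab
    have : a - b ∈ (⊥ : Ideal R) := h _ (by
      rw [Submodule.mem_bot, mul_sub, sub_eq_zero]; exact hab)
    exact sub_eq_zero.mp ((Submodule.mem_bot R).mp this)

theorem isWeaklyRegular_three {a b c : R} (h1 : NZD ⊥ a) (h2 : NZD (Ideal.span {a}) b)
    (h3 : NZD (Ideal.span {a, b}) c) : RingTheory.Sequence.IsWeaklyRegular R [a, b, c] := by
  rw [RingTheory.Sequence.isWeaklyRegular_iff_Fin]
  intro i
  have key : ∀ (l : List R) (x : R), NZD (Ideal.ofList l) x →
      IsSMulRegular (R ⧸ (Ideal.ofList l • ⊤ : Submodule R R)) x := by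
    intro l x h
    have e : (Ideal.ofList l • ⊤ : Submodule R R) = Ideal.ofList l := by simp
    rw [e]
    exact (isSMulRegular_quot_iff _ _).mpr h
  apply key
  fin_cases i
  · simpa using h1
  · simpa using h2
  · simpa [Ideal.span_insert] using h3

open Matrix in
theorem cr0 (a b : Fin 3 → R) : (a ⨯₃ b) 0 = a 1 * b 2 - a 2 * b 1 := by rw [cross_apply]; rfl

open Matrix in
theorem cr1 (a b : Fin 3 → R) : (a ⨯₃ b) 1 = a 2 * b 0 - a 0 * b 2 := by rw [cross_apply]; rfl

open Matrix in
theorem cr2 (a b : Fin 3 → R) : (a ⨯₃ b) 2 = a 0 * b 1 - a 1 * b 0 := by rw [cross_apply]; rfl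

open Matrix in
/-- first syzygies of a regular sequence of length three -/
theorem syz {a : Fin 3 → R} (h1 : NZD ⊥ (a 0)) (h2 : NZD (Ideal.span {a 0}) (a 1))
    (h3 : NZD (Ideal.span {a 0, a 1}) (a 2)) {v : Fin 3 → R}
    (h : v 0 * a 0 + v 1 * a 1 + v 2 * a 2 = 0) :
    ∃ w : Fin 3 → R, v = w ⨯₃ a := by
  have hm : a 2 * v 2 ∈ Ideal.span {a 0, a 1} := by
    rw [Ideal.mem_span_pair]
    exact ⟨-v 0, -v 1, by linear_combination -h⟩
  obtain ⟨p, q, hpq⟩ := Ideal.mem_span_pair.mp (h3 _ hm)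
  have hm2 : a 1 * (v 1 + q * a 2) ∈ Ideal.span {a 0} := by
    rw [Ideal.mem_span_singleton']
    exact ⟨-(v 0 + p * a 2), by linear_combination -h + (-a 2) * hpq⟩
  obtain ⟨r, hr⟩ := Ideal.mem_span_singleton'.mp (h2 _ hm2)
  have h0 : v 0 + p * a 2 + r * a 1 ∈ (⊥ : Ideal R) := h1 _ (by
    rw [Submodule.mem_bot]
    linear_combination h + a 2 * hpq + a 1 * hr)
  rw [Submodule.mem_bot] at h0
  refine ⟨![q, -p, r], ?_⟩
  ext i
  fin_cases i <;> simp [cross_apply]
  · linear_combination h0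
  · linear_combination -hr
  · linear_combination -hpq

open Matrix in
/-- second syzygies -/
theorem syz2 {a : Fin 3 → R} (h1 : NZD ⊥ (a 0)) (h2 : NZD (Ideal.span {a 0}) (a 1))
    {w : Fin 3 → R} (h : w ⨯₃ a = 0) : ∃ t : R, w = t • a := by
  have e2 : w 0 * a 1 - w 1 * a 0 = 0 := by simpa [cross_apply] using congrFun h 2
  have e1 : w 2 * a 0 - w 0 * a 2 = 0 := by simpa [cross_apply] using congrFun h 1
  have hm : a 1 * w 0 ∈ Ideal.span {a 0} := by
    rw [Ideal.mem_span_singleton']
    exact ⟨w 1, by linear_combination -e2⟩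
  obtain ⟨t, ht⟩ := Ideal.mem_span_singleton'.mp (h2 _ hm)
  have k1 : w 1 - t * a 1 = 0 := (Submodule.mem_bot R).mp (h1 _ (by
    rw [Submodule.mem_bot]; linear_combination -e2 - a 1 * ht))
  have k2 : w 2 - t * a 2 = 0 := (Submodule.mem_bot R).mp (h1 _ (by
    rw [Submodule.mem_bot]; linear_combination e1 - a 2 * ht))
  refine ⟨t, funext fun i => ?_⟩
  fin_cases i <;> simp
  · linear_combination -ht
  · linear_combination k1
  · linear_combination k2

open Matrix in
/-- Linkage: `(Q : L) ⊆ (Q) + (det M)` for regular sequences `Q = M L`, `L`;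
`mi` are the columns of `M`. -/
theorem linkage (L Q m1 m2 m3 : Fin 3 → R) (hQL : Q = L 0 • m1 + L 1 • m2 + L 2 • m3)
    (hL1 : NZD ⊥ (L 0)) (hL2 : NZD (Ideal.span {L 0}) (L 1))
    (hL3 : NZD (Ideal.span {L 0, L 1}) (L 2))
    (hQ1 : NZD ⊥ (Q 0)) (hQ2 : NZD (Ideal.span {Q 0}) (Q 1))
    (hQ3 : NZD (Ideal.span {Q 0, Q 1}) (Q 2))
    {x : R} (hx : ∀ i, x * L i ∈ Ideal.span {Q 0, Q 1, Q 2}) :
    ∃ (t : R) (s : Fin 3 → R), x = s ⬝ᵥ Q - t * (m1 ⬝ᵥ m2 ⨯₃ m3) := by
  have hx' : ∀ i, ∃ A : Fin 3 → R, x * L i = A ⬝ᵥ Q := by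
    intro i
    obtain ⟨a, z, hz, e⟩ := Ideal.mem_span_insert.mp (hx i)
    obtain ⟨b, c, rfl⟩ := Ideal.mem_span_pair.mp hz
    exact ⟨![a, b, c], by rw [e]; simp [dotProduct, Fin.sum_univ_three]; ring⟩
  choose A hA using hx'
  have hrel : ∀ i k, ∃ B : Fin 3 → R, L k • A i - L i • A k = B ⨯₃ Q := by
    intro i k
    apply syz hQ1 hQ2 hQ3
    have ei := hA i
    have ek := hA k
    simp [dotProduct, Fin.sum_univ_three] at ei ek ⊢
    linear_combination -(L k) * ei + (L i) * ek
  obtain ⟨B3, hB3⟩ := hrel 0 1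
  obtain ⟨B1, hB1⟩ := hrel 1 2
  obtain ⟨B2, hB2⟩ := hrel 2 0
  have hsum : (L 0 • B1 + L 1 • B2 + L 2 • B3) ⨯₃ Q = 0 := by
    simp only [map_add, map_smul, LinearMap.add_apply, LinearMap.smul_apply, ← hB1, ← hB2, ← hB3]
    ext i; simp; ring
  obtain ⟨t, ht⟩ := syz2 hQ1 hQ2 hsum
  have hW : ∀ j, ∃ w : Fin 3 → R,
      (![B1 j - t * m1 j, B2 j - t * m2 j, B3 j - t * m3 j] : Fin 3 → R) = w ⨯₃ L := by
    intro j
    apply syz hL1 hL2 hL3
    have e := congrFun ht j
    rw [hQL] at e
    simp at e ⊢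
    linear_combination e
  choose W hW' using hW
  have hB3' : ∀ j, B3 j = t * m3 j + (W j 0 * L 1 - W j 1 * L 0) := by
    intro j
    have e := congrFun (hW' j) 2
    simp [cross_apply] at e
    linear_combination e
  -- the corrected coefficient vectors
  let R1 := m2 ⨯₃ m3
  let R2 := m3 ⨯₃ m1
  let W1 : Fin 3 → R := fun j => W j 0
  let W2 : Fin 3 → R := fun j => W j 1
  have key : L 1 • (A 0 + t • R1 - W1 ⨯₃ Q) = L 0 • (A 1 + t • R2 - W2 ⨯₃ Q) := by
    ext i
    have e := congrFun hB3 i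
    have q0 := congrFun hQL 0
    have q1 := congrFun hQL 1
    have q2 := congrFun hQL 2
    have b0 := hB3' 0
    have b1 := hB3' 1
    have b2 := hB3' 2
    simp at q0 q1 q2
    fin_cases i <;> simp [R1, R2, W1, W2, cr0, cr1, cr2, b0, b1, b2] at e ⊢
    · linear_combination e + t * (m3 1) * q2 - t * (m3 2) * q1
    · linear_combination e + t * (m3 2) * q0 - t * (m3 0) * q2
    · linear_combination e + t * (m3 0) * q1 - t * (m3 1) * q0
  have hmem : ∀ i, (A 0 + t • R1 - W1 ⨯₃ Q) i ∈ Ideal.span {L 0} := by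
    intro i
    apply hL2
    rw [Ideal.mem_span_singleton']
    refine ⟨(A 1 + t • R2 - W2 ⨯₃ Q) i, ?_⟩
    have e := congrFun key i
    simp only [Pi.smul_apply, smul_eq_mul] at e
    linear_combination -e
  choose s hs using fun i => Ideal.mem_span_singleton'.mp (hmem i)
  refine ⟨t, s, ?_⟩
  have hd : L 0 * (x - (s ⬝ᵥ Q - t * (m1 ⬝ᵥ m2 ⨯₃ m3))) = 0 := by
    have e0 := hA 0
    have s0 := hs 0
    have s1 := hs 1
    have s2 := hs 2
    have q0 := congrFun hQL 0
    have q1 := congrFun hQL 1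
    have q2 := congrFun hQL 2
    simp [dotProduct, Fin.sum_univ_three, R1, W1, cr0, cr1, cr2] at e0 s0 s1 s2 q0 q1 q2 ⊢
    linear_combination e0 - Q 0 * s0 - Q 1 * s1 - Q 2 * s2
      - t * (m2 1 * m3 2 - m2 2 * m3 1) * q0 - t * (m2 2 * m3 0 - m2 0 * m3 2) * q1
      - t * (m2 0 * m3 1 - m2 1 * m3 0) * q2
  have := h1_cancel hL1 hd
  exact sub_eq_zero.mp this
where
  h1_cancel {l y : R} (h : NZD (⊥ : Ideal R) l) (hy : l * y = 0) : y = 0 :=
    (Submodule.mem_bot R).mp (h _ ((Submodule.mem_bot R).mpr hy))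

end General

section Poly
variable {A : Type*} [CommRing A] {σ : Type*} [DecidableEq σ]

/-- regard a polynomial as a polynomial in the variable `v` -/
noncomputable def extract (v : σ) : MvPolynomial σ A →ₐ[A] Polynomial (MvPolynomial σ A) :=
  aeval fun j => if j = v then Polynomial.X else Polynomial.C (X j)

@[simp] theorem extract_X (v j : σ) :
    extract (A := A) v (X j) = if j = v then Polynomial.X else Polynomial.C (X j) := by
  simp [extract]

theorem eval_extract (v : σ) (p : MvPolynomial σ A) : (extract v p).eval (X v) = p := by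
  induction p using MvPolynomial.induction_on with
  | C a => simp [extract]
  | add p q hp hq => simp [hp, hq]
  | mul_X p j hp =>
    rw [map_mul, Polynomial.eval_mul, hp, extract_X]
    split_ifs with h <;> simp [h]

theorem nzd_linear (v : σ) (S : Set (MvPolynomial σ A))
    (hS : ∀ s ∈ S, extract v s = Polynomial.C s) {p u w : MvPolynomial σ A}
    (hp : p = u * X v + w)
    (hu : extract v u = Polynomial.C u) (hw : extract v w = Polynomial.C w)
    (hun : NZD (Ideal.span S) u) : NZD (Ideal.span S) p := by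
  intro y hy
  let π : Polynomial (MvPolynomial σ A) →+* Polynomial (MvPolynomial σ A ⧸ Ideal.span S) :=
    Polynomial.mapRingHom (Ideal.Quotient.mk _)
  let ψ : MvPolynomial σ A →+* Polynomial (MvPolynomial σ A ⧸ Ideal.span S) :=
    π.comp (extract v).toRingHom
  have hker : Ideal.span S ≤ RingHom.ker ψ := by
    rw [Ideal.span_le]
    intro s hs
    simp [ψ, π, hS s hs, Ideal.Quotient.eq_zero_iff_mem.mpr (Ideal.subset_span hs)]
  have h0 : ψ p * ψ y = 0 := by
    rw [← map_mul]; exact hker hy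
  have hψp : ψ p = Polynomial.C (Ideal.Quotient.mk _ u) * Polynomial.X
      + Polynomial.C (Ideal.Quotient.mk _ w) := by
    simp [ψ, π, hp, hu, hw]
  have hy0 : ψ y = 0 := by
    by_contra hne
    have hc := congrArg (fun q => Polynomial.coeff q ((ψ y).natDegree + 1)) h0
    simp [hψp, add_mul, mul_assoc] at hc
    obtain ⟨r, hr⟩ := Ideal.Quotient.mk_surjective (ψ y).leadingCoeff
    have : u * r ∈ Ideal.span S := by
      rw [← Ideal.Quotient.eq_zero_iff_mem, map_mul, hr]
      exact hc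
    exact hne (Polynomial.leadingCoeff_eq_zero.mp
      (hr ▸ Ideal.Quotient.eq_zero_iff_mem.mpr (hun r this)))
  have hc : ∀ n, (extract v y).coeff n ∈ Ideal.span S := by
    intro n
    have := congrArg (fun q => Polynomial.coeff q n) hy0
    simpa [ψ, π, Ideal.Quotient.eq_zero_iff_mem] using this
  rw [← eval_extract v y, Polynomial.eval_eq_sum, Polynomial.sum_def]
  exact Ideal.sum_mem _ fun n _ => Ideal.mul_mem_right _ _ (hc n)

theorem nzd_X (v : σ) (S : Set (MvPolynomial σ A))
    (hS : ∀ s ∈ S, extract v s = Polynomial.C s) : NZD (Ideal.span S) (X v) :=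
  nzd_linear v S hS (u := 1) (w := 0) (by ring) (by simp) (by simp)
    (fun y hy => by simpa using hy)

end Poly

section Ext
open CategoryTheory Abelian RingTheory.Sequence
variable {R : Type u} [CommRing R]

/-- Ext vanishing descends along a weakly regular sequence. -/
theorem subsingleton_hom_quot_of_ext (N : ModuleCat.{u} R) (rs : List R) :
    ∀ M : ModuleCat.{u} R, IsWeaklyRegular M rs →
    (∀ i, i ≤ rs.length → Subsingleton (Ext N M i)) →
      Subsingleton (N →ₗ[R] (M ⧸ (Ideal.ofList rs • ⊤ : Submodule R M))) := by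
  induction rs with
  | nil =>
    intro M _ h
    have : Subsingleton (N ⟶ M) := Ext.addEquiv₀.subsingleton_congr.mp (h 0 le_rfl)
    have : Subsingleton (N →ₗ[R] M) := ModuleCat.homAddEquiv.symm.subsingleton
    have e : (Ideal.ofList ([] : List R) • ⊤ : Submodule R M) = ⊥ := by simp
    exact ((LinearEquiv.refl R N).arrowCongr (Submodule.quotEquivOfEqBot _ e)).toEquiv.subsingleton
  | cons a l ih =>
    intro M hreg h
    rw [isWeaklyRegular_cons_iff] at hreg
    have := ih (ModuleCat.of R (QuotSMulTop a M)) hreg.2 (by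
      intro i hi
      have zero1 := AddCommGrpCat.isZero_of_iff_subsingleton.mpr (h i (by simp; omega))
      have zero2 := AddCommGrpCat.isZero_of_iff_subsingleton.mpr (h (i + 1) (by simp; omega))
      exact AddCommGrpCat.subsingleton_of_isZero <| ShortComplex.Exact.isZero_of_both_zeros
        ((Ext.covariant_sequence_exact₃' N hreg.1.smulShortComplex_shortExact) i (i + 1) rfl)
        (zero1.eq_zero_of_src _) (zero2.eq_zero_of_tgt _))
    exact ((LinearEquiv.refl R N).arrowCongr
      (Submodule.quotOfListConsSMulTopEquivQuotSMulTopInner M a l)).toEquiv.subsingleton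

/-- If an ideal `b` contains a weakly regular sequence longer than `rs`, no nonzero element modulo
`rs` is killed by `b`. -/
theorem eq_zero_of_annihilated [IsNoetherianRing R] (b : Ideal R) (hb : b ≠ ⊤) (xs rs : List R)
    (hxb : ∀ r ∈ xs, r ∈ b) (hxs : IsWeaklyRegular R xs) (hrs : IsWeaklyRegular R rs)
    (hlen : rs.length < xs.length) (y : R) (hy : ∀ r ∈ b, r * y ∈ Ideal.ofList rs) :
    y ∈ Ideal.ofList rs := by
  have hne : b • (⊤ : Submodule R R) < ⊤ := by simpa [lt_top_iff_ne_top] using hb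
  have hxr : IsRegular (ModuleCat.of R R) xs := by
    refine ⟨hxs, fun e => hne.ne (top_le_iff.mp ?_)⟩
    calc (⊤ : Submodule R R) = Ideal.ofList xs • ⊤ := e
      _ ≤ _ := Submodule.smul_mono_left (Ideal.span_le.mpr hxb)
  have hext := ModuleCat.subsingleton_ext_of_exists_isRegular b (ModuleCat.of R (R ⧸ b))
    (by simp [Module.support_eq_zeroLocus, Ideal.annihilator_quotient])
    (ModuleCat.of R R) hne xs hxb hxr
  have hsub := subsingleton_hom_quot_of_ext (ModuleCat.of R (R ⧸ b)) rs (ModuleCat.of R R) hrs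
    (fun i hi => hext i (by omega))
  let q : Submodule R R := Ideal.ofList rs • ⊤
  have hq : q = Ideal.ofList rs := by simp [q]
  let g : (R ⧸ b) →ₗ[R] R ⧸ q :=
    Submodule.liftQ b (LinearMap.toSpanSingleton R _ (Submodule.mkQ q y)) (by
      intro r hr
      rw [LinearMap.mem_ker, LinearMap.toSpanSingleton_apply, ← map_smul]
      exact (Submodule.Quotient.mk_eq_zero q).mpr (hq ▸ hy r hr))
  have h1 : g = 0 := @Subsingleton.elim _ hsub g 0
  have h2 : (LinearMap.toSpanSingleton R _ (Submodule.mkQ q y)) 1 = 0 := by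
    have := congrArg (fun f : (R ⧸ b) →ₗ[R] R ⧸ q => f (Submodule.mkQ b 1)) h1
    exact this
  rw [LinearMap.toSpanSingleton_apply, one_smul] at h2
  exact hq ▸ (Submodule.Quotient.mk_eq_zero q).mp h2

end Ext

end Groth.Agent.Lib.Lie3.Core
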